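import Cfsg.Agent.ChevUniversal.Multiplier
import Cfsg.Agent.ChevUniversal.SimplyData
import Cfsg.Agent.ChevUniversal.TorusMul
import Cfsg.Agent.ChevSteinberg.CenterData
import Cfsg.Agent.ChevSteinberg.Data

/-! The data for the types E6, E7, E8: subsystems of type A2 and the inclusions E6 ⊂ E7 ⊂ E8. -/

set_option autoImplicit false

namespace CfsgLib.ChevUniversal

open Cfsg.Lie CfsgLib.Chevalley CfsgLib.ChevSteinberg

theorem chkAllA2_E6 : chkAllA2 chevE6 (tabE6.coord chevE6.rank) [2, 3, 0, 1, 3, 4] = true := by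
  decide +kernel

theorem chkAllA2_E7 : chkAllA2 chevE7 (tabE7.coord chevE7.rank) [2, 3, 0, 1, 3, 4, 5] = true := by
  decide +kernel

theorem chkAllA2_E8 :
    chkAllA2 chevE8 (tabE8.coord chevE8.rank) [2, 3, 0, 1, 3, 4, 5, 6] = true := by
  decide +kernel

/-- Root indices for the inclusion. -/
def ioE6 : List ℕ :=
  [6, 10, 13, 15, 16, 19, 21, 22, 24, 25, 26, 28, 29, 30, 31, 32, 35, 37, 38, 40, 41, 42, 44, 45,
  46, 47, 49, 50, 51, 52, 54, 55, 56, 58, 59, 61, 64, 66, 67, 69, 70, 71, 73, 74, 75, 76, 78,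
  79, 80, 81, 83, 84, 85, 87, 88, 90, 93, 94, 95, 96, 97, 99, 100, 101, 103, 104, 106, 109, 110,
  112, 115, 119]

/-- Root indices for the inclusion. -/
def joE6 : List ℕ :=
  [0, 0, 0, 0, 0, 0, 0, 0, 0, 0, 1, 0, 0, 2, 0, 3, 4, 0, 0, 5, 0, 6, 7, 0, 8, 9, 10, 0, 11, 12,
  13, 14, 15, 0, 0, 16, 0, 17, 18, 0, 19, 20, 21, 0, 22, 23, 24, 25, 0, 26, 27, 28, 29, 0, 30,
  31, 32, 0, 33, 34, 0, 35, 0, 0, 36, 0, 37, 38, 0, 39, 40, 41, 0, 42, 43, 44, 45, 0, 46, 47,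
  48, 49, 0, 50, 51, 52, 0, 53, 54, 0, 55, 0, 0, 56, 57, 58, 59, 60, 0, 61, 62, 63, 0, 64, 65,
  0, 66, 0, 0, 67, 68, 0, 69, 0, 0, 70, 0, 0, 0, 71, 0, 0, 0, 0, 0, 0]

/-- Root indices for the inclusion. -/
def ioE7 : List ℕ :=
  [13, 20, 25, 29, 32, 34, 35, 39, 42, 44, 45, 48, 50, 51, 53, 54, 55, 58, 60, 61, 63, 64, 65, 67,
  68, 69, 70, 72, 73, 74, 75, 76, 77, 80, 82, 83, 85, 86, 87, 89, 90, 91, 92, 94, 95, 96, 97,
  98, 100, 101, 102, 103, 104, 106, 107, 108, 109, 111, 112, 113, 115, 116, 118, 121, 123, 124,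
  126, 127, 128, 130, 131, 132, 133, 135, 136, 137, 138, 139, 141, 142, 143, 144, 145, 147, 148,
  149, 150, 152, 153, 154, 156, 157, 159, 162, 163, 164, 165, 166, 167, 169, 170, 171, 172, 174,
  175, 176, 178, 179, 181, 184, 185, 186, 188, 189, 191, 194, 195, 197, 200, 204, 205, 207, 210,
  214, 219, 226]

/-- Root indices for the inclusion. -/
def joE7 : List ℕ :=
  [0, 0, 0, 0, 0, 0, 0, 0, 0, 0, 0, 0, 0, 0, 0, 0, 0, 0, 0, 0, 1, 0, 0, 0, 0, 2, 0, 0, 0, 3, 0, 0,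
  4, 0, 5, 6, 0, 0, 0, 7, 0, 0, 8, 0, 9, 10, 0, 0, 11, 0, 12, 13, 0, 14, 15, 16, 0, 0, 17, 0,
  18, 19, 0, 20, 21, 22, 0, 23, 24, 25, 26, 0, 27, 28, 29, 30, 31, 32, 0, 0, 33, 0, 34, 35, 0,
  36, 37, 38, 0, 39, 40, 41, 42, 0, 43, 44, 45, 46, 47, 0, 48, 49, 50, 51, 52, 0, 53, 54, 55,
  56, 0, 57, 58, 59, 0, 60, 61, 0, 62, 0, 0, 63, 0, 64, 65, 0, 66, 67, 68, 0, 69, 70, 71, 72, 0,
  73, 74, 75, 76, 77, 0, 78, 79, 80, 81, 82, 0, 83, 84, 85, 86, 0, 87, 88, 89, 0, 90, 91, 0, 92,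
  0, 0, 93, 94, 95, 96, 97, 98, 0, 99, 100, 101, 102, 0, 103, 104, 105, 0, 106, 107, 0, 108, 0,
  0, 109, 110, 111, 0, 112, 113, 0, 114, 0, 0, 115, 116, 0, 117, 0, 0, 118, 0, 0, 0, 119, 120,
  0, 121, 0, 0, 122, 0, 0, 0, 123, 0, 0, 0, 0, 124, 0, 0, 0, 0, 0, 0, 125, 0, 0, 0, 0, 0, 0, 0,
  0, 0, 0, 0, 0, 0]

theorem chkEmb_E6 :
    chkEmb chevE6 chevE7 tabE6.etaF tabE7.etaF tabE6.tops ioE6 joE6 = true := by
  decide +kernel

theorem chkEmb_E7 :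
    chkEmb chevE7 chevE8 tabE7.etaF tabE8.etaF tabE7.tops ioE7 joE7 = true := by
  decide +kernel

/-- E6 inside E7. -/
noncomputable def embE6 : Emb (D := chevE6) (D' := chevE7) := embOfChk sysE6 sysE7 chkEmb_E6

/-- E7 inside E8. -/
noncomputable def embE7 : Emb (D := chevE7) (D' := chevE8) := embOfChk sysE7 sysE8 chkEmb_E7

end CfsgLib.ChevUniversal
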